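import Mathlib

set_option autoImplicit false
open scoped commutatorElement

/-! An abstract Heisenberg group of order dividing 27: `z` central, `z³ = c³ = d³ = 1`,
`c d = z d c`, with an "automorphism" `m`: `m c m⁻¹ = d²`, `m d m⁻¹ = c`. -/

namespace Cfsg.Agent.Lib.Helper5.Heis3

variable {G : Type*} [Group G]

/-- the relations -/
structure HRel (c d z m : G) : Prop where
  hz : ∀ g : G, z * g = g * z
  hz3 : z ^ 3 = 1
  hc3 : c ^ 3 = 1
  hd3 : d ^ 3 = 1
  hcd : c * d = z * d * c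
  hmc : m * c = d * d * m
  hmd : m * d = c * m
  hz1 : z ≠ 1

variable {c d z m : G}

namespace HRel

variable (R : HRel c d z m)
include R

theorem zpow_comm (k : ℕ) (g : G) : z ^ k * g = g * z ^ k := by
  induction k with
  | zero => simp
  | succ k ih => rw [pow_succ, mul_assoc, R.hz g, ← mul_assoc, ih, mul_assoc]

theorem dc : d * c = z ^ 2 * c * d := by
  have h1 : z ^ 2 * (c * d) = d * c := by
    rw [R.hcd, ← mul_assoc, ← mul_assoc, ← pow_succ, R.hz3, one_mul]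
  rw [mul_assoc, h1]

theorem d_cpow (b : ℕ) : d * c ^ b = z ^ (2 * b) * c ^ b * d := by
  induction b with
  | zero => simp
  | succ b ih =>
    calc d * c ^ (b + 1) = (d * c ^ b) * c := by rw [pow_succ, mul_assoc]
      _ = z ^ (2 * b) * c ^ b * (d * c) := by rw [ih]; group
      _ = z ^ (2 * b) * (c ^ b * z ^ 2) * c * d := by rw [R.dc]; group
      _ = z ^ (2 * b) * (z ^ 2 * c ^ b) * c * d := by rw [R.zpow_comm 2 (c ^ b)]
      _ = (z ^ (2 * b) * z ^ 2) * (c ^ b * c) * d := by group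
      _ = z ^ (2 * (b + 1)) * c ^ (b + 1) * d := by
        rw [← pow_add, ← pow_succ, mul_add, mul_one]

theorem dpow_cpow (a b : ℕ) : d ^ a * c ^ b = z ^ (2 * a * b) * c ^ b * d ^ a := by
  induction a with
  | zero => simp
  | succ a ih =>
    rw [pow_succ' d, mul_assoc, ih]
    have e : d * (z ^ (2 * a * b) * c ^ b * d ^ a) = (d * z ^ (2 * a * b)) * c ^ b * d ^ a := by
      group
    rw [e, ← R.zpow_comm (2 * a * b) d]
    have e2 : z ^ (2 * a * b) * d * c ^ b * d ^ a = z ^ (2 * a * b) * (d * c ^ b) * d ^ a := by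
      group
    rw [e2, R.d_cpow b]
    have e3 : z ^ (2 * a * b) * (z ^ (2 * b) * c ^ b * d) * d ^ a =
        (z ^ (2 * a * b) * z ^ (2 * b)) * c ^ b * (d * d ^ a) := by group
    rw [e3, ← pow_add, ← pow_succ' d]
    congr 3
    ring

/-- product of normal forms -/
theorem nf_mul (k u v k' u' v' : ℕ) :
    (z ^ k * c ^ u * d ^ v) * (z ^ k' * c ^ u' * d ^ v') =
      z ^ (k + k' + 2 * v * u') * c ^ (u + u') * d ^ (v + v') := by
  have e1 : (z ^ k * c ^ u * d ^ v) * (z ^ k' * c ^ u' * d ^ v') =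
      z ^ k * c ^ u * (d ^ v * z ^ k') * c ^ u' * d ^ v' := by group
  rw [e1, ← R.zpow_comm k' (d ^ v)]
  have e2 : z ^ k * c ^ u * (z ^ k' * d ^ v) * c ^ u' * d ^ v' =
      z ^ k * (c ^ u * z ^ k') * (d ^ v * c ^ u') * d ^ v' := by group
  rw [e2, ← R.zpow_comm k' (c ^ u), R.dpow_cpow v u']
  have e3 : z ^ k * (z ^ k' * c ^ u) * (z ^ (2 * v * u') * c ^ u' * d ^ v) * d ^ v' =
      z ^ k * z ^ k' * (c ^ u * z ^ (2 * v * u')) * c ^ u' * (d ^ v * d ^ v') := by group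
  rw [e3, ← R.zpow_comm (2 * v * u') (c ^ u)]
  have e4 : z ^ k * z ^ k' * (z ^ (2 * v * u') * c ^ u) * c ^ u' * (d ^ v * d ^ v') =
      (z ^ k * z ^ k' * z ^ (2 * v * u')) * (c ^ u * c ^ u') * (d ^ v * d ^ v') := by group
  rw [e4, ← pow_add, ← pow_add, ← pow_add, ← pow_add]

theorem pow_three_mul (g : G) (hg : g ^ 3 = 1) (k : ℕ) : g ^ (3 * k) = 1 := by
  rw [pow_mul, hg, one_pow]

/-- normal forms have exponent 3 -/
theorem nf_cube (k u v : ℕ) : (z ^ k * c ^ u * d ^ v) ^ 3 = 1 := by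
  rw [pow_succ, pow_two, R.nf_mul, R.nf_mul]
  have e1 : k + k + 2 * v * u + k + 2 * (v + v) * u = 3 * (k + 2 * v * u) := by ring
  have e2 : u + u + u = 3 * u := by ring
  have e3 : v + v + v = 3 * v := by ring
  rw [e1, e2, e3, R.pow_three_mul z R.hz3, R.pow_three_mul c R.hc3, R.pow_three_mul d R.hd3]
  simp

/-- the group -/
def E (c d z : G) : Subgroup G := Subgroup.closure {c, d, z}

theorem c_mem : c ∈ E c d z := Subgroup.subset_closure (by simp)
theorem d_mem : d ∈ E c d z := Subgroup.subset_closure (by simp)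
theorem z_mem : z ∈ E c d z := Subgroup.subset_closure (by simp)

theorem nf_mem (k u v : ℕ) : z ^ k * c ^ u * d ^ v ∈ E c d z :=
  Subgroup.mul_mem _ (Subgroup.mul_mem _ (Subgroup.pow_mem _ R.z_mem k)
    (Subgroup.pow_mem _ R.c_mem u)) (Subgroup.pow_mem _ R.d_mem v)

/-- every element is a normal form -/
theorem exists_nf {x : G} (hx : x ∈ E c d z) : ∃ k u v : ℕ, x = z ^ k * c ^ u * d ^ v := by
  unfold E at hx
  induction hx using Subgroup.closure_induction with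
  | mem y hy =>
    rcases hy with rfl | rfl | rfl
    · exact ⟨0, 1, 0, by simp⟩
    · exact ⟨0, 0, 1, by simp⟩
    · exact ⟨1, 0, 0, by simp⟩
  | one => exact ⟨0, 0, 0, by simp⟩
  | mul a b _ _ ha hb =>
    obtain ⟨k, u, v, rfl⟩ := ha
    obtain ⟨k', u', v', rfl⟩ := hb
    exact ⟨_, _, _, R.nf_mul k u v k' u' v'⟩
  | inv a _ ha =>
    obtain ⟨k, u, v, rfl⟩ := ha
    have h3 := R.nf_cube k u v
    have hinv : (z ^ k * c ^ u * d ^ v)⁻¹ = (z ^ k * c ^ u * d ^ v) * (z ^ k * c ^ u * d ^ v) := by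
      rw [inv_eq_iff_mul_eq_one, ← pow_two, ← pow_succ']
      exact h3
    rw [hinv]
    exact ⟨_, _, _, R.nf_mul k u v k u v⟩

theorem cube {x : G} (hx : x ∈ E c d z) : x ^ 3 = 1 := by
  obtain ⟨k, u, v, rfl⟩ := R.exists_nf hx
  exact R.nf_cube k u v

theorem comm_mem {x y : G} (hx : x ∈ E c d z) (hy : y ∈ E c d z) :
    ⁅x, y⁆ ∈ Subgroup.zpowers z := by
  obtain ⟨k, u, v, rfl⟩ := R.exists_nf hx
  obtain ⟨k', u', v', rfl⟩ := R.exists_nf hy
  set X := z ^ k * c ^ u * d ^ v with hX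
  set Y := z ^ k' * c ^ u' * d ^ v' with hY
  set M := z ^ (k + k') * c ^ (u + u') * d ^ (v + v') with hM
  have h1 : X * Y = z ^ (2 * v * u') * M := by
    rw [hX, hY, R.nf_mul, hM, pow_add z (k + k'), R.zpow_comm (k + k')]
    group
  have h2 : Y * X = z ^ (2 * v' * u) * M := by
    rw [hX, hY, R.nf_mul, hM, pow_add z (k' + k), R.zpow_comm (k' + k), add_comm k' k,
      add_comm u' u, add_comm v' v]
    group
  have h3 : ⁅X, Y⁆ = (X * Y) * (Y * X)⁻¹ := by
    rw [commutatorElement_def]; group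
  rw [h3, h1, h2]
  have h4 : z ^ (2 * v * u') * M * (z ^ (2 * v' * u) * M)⁻¹ =
      z ^ (2 * v * u') * (z ^ (2 * v' * u))⁻¹ := by group
  rw [h4]
  exact Subgroup.mul_mem _ (Subgroup.pow_mem _ (Subgroup.mem_zpowers z) _)
    (Subgroup.inv_mem _ (Subgroup.pow_mem _ (Subgroup.mem_zpowers z) _))

theorem orderOf_z : orderOf z = 3 := by
  have h := orderOf_dvd_of_pow_eq_one R.hz3
  rcases (Nat.dvd_prime Nat.prime_three).mp h with h1 | h1
  · exact absurd (orderOf_eq_one_iff.mp h1) R.hz1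
  · exact h1

theorem m_conj_c : m * c * m⁻¹ = d * d := by rw [R.hmc]; group
theorem m_conj_d : m * d * m⁻¹ = c := by rw [R.hmd]; group
theorem m_conj_z : m * z * m⁻¹ = z := by rw [← R.hz m]; group

theorem m_conj_nf (k u v : ℕ) :
    m * (z ^ k * c ^ u * d ^ v) * m⁻¹ = z ^ (k + 4 * u * v) * c ^ v * d ^ (2 * u) := by
  have e1 : m * (z ^ k * c ^ u * d ^ v) * m⁻¹ =
      (m * z ^ k * m⁻¹) * (m * c ^ u * m⁻¹) * (m * d ^ v * m⁻¹) := by group
  rw [e1, ← _root_.conj_pow, ← _root_.conj_pow, ← _root_.conj_pow, R.m_conj_c, R.m_conj_d,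
    R.m_conj_z, ← pow_two, ← pow_mul, mul_assoc, R.dpow_cpow (2 * u) v, ← mul_assoc, ← mul_assoc,
    ← pow_add]
  congr 3
  ring

theorem wnorm {x : G} (hx : x ∈ E c d z) : m * x * m⁻¹ ∈ E c d z := by
  obtain ⟨k, u, v, rfl⟩ := R.exists_nf hx
  rw [R.m_conj_nf]
  exact R.nf_mem _ _ _

theorem factC {x : G} (hx : x ∈ E c d z) (hxz : x ∉ Subgroup.zpowers z) :
    x * (m * x * m⁻¹) ≠ (m * x * m⁻¹) * x := by
  obtain ⟨k, u, v, rfl⟩ := R.exists_nf hx
  rw [R.m_conj_nf]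
  intro hcomm
  rw [R.nf_mul, R.nf_mul] at hcomm
  -- compare z-exponents
  set A := c ^ (u + v) * d ^ (v + 2 * u) with hA
  have e1 : z ^ (k + (k + 4 * u * v) + 2 * v * v) * c ^ (u + v) * d ^ (v + 2 * u) =
      z ^ (k + (k + 4 * u * v) + 2 * v * v) * A := by rw [hA]; group
  have e2 : z ^ (k + 4 * u * v + k + 2 * (2 * u) * u) * c ^ (v + u) * d ^ (2 * u + v) =
      z ^ (k + 4 * u * v + k + 2 * (2 * u) * u) * A := by
    rw [hA, add_comm v u, add_comm (2 * u) v]; group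
  rw [e1, e2] at hcomm
  have hz := mul_right_cancel hcomm
  rw [pow_eq_pow_iff_modEq, R.orderOf_z] at hz
  have hu : u % 3 = 0 ∧ v % 3 = 0 := by
    have h := hz
    unfold Nat.ModEq at h
    have hu3 : u % 3 < 3 := Nat.mod_lt _ (by norm_num)
    have hv3 : v % 3 < 3 := Nat.mod_lt _ (by norm_num)
    have key : (k + (k + 4 * u * v) + 2 * v * v) % 3 =
        (k + (k + 4 * (u % 3) * (v % 3)) + 2 * (v % 3) * (v % 3)) % 3 := by
      simp [Nat.add_mod, Nat.mul_mod]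
    have key2 : (k + 4 * u * v + k + 2 * (2 * u) * u) % 3 =
        (k + 4 * (u % 3) * (v % 3) + k + 2 * (2 * (u % 3)) * (u % 3)) % 3 := by
      simp [Nat.add_mod, Nat.mul_mod]
    rw [key, key2] at h
    interval_cases hu' : u % 3 <;> interval_cases hv' : v % 3 <;> omega
  apply hxz
  have hcu : c ^ u = 1 := by
    obtain ⟨t, ht⟩ := Nat.dvd_of_mod_eq_zero hu.1
    rw [ht, R.pow_three_mul c R.hc3]
  have hdv : d ^ v = 1 := by
    obtain ⟨t, ht⟩ := Nat.dvd_of_mod_eq_zero hu.2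
    rw [ht, R.pow_three_mul d R.hd3]
  rw [hcu, hdv, mul_one, mul_one]
  exact Subgroup.pow_mem _ (Subgroup.mem_zpowers z) _

end HRel

end Cfsg.Agent.Lib.Helper5.Heis3
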