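import Cfsg.Agent.Lib.Helper5.SU32b
import Cfsg.Agent.Lib.Helper5.Heis3.Abstract
import Cfsg.Agent.Lib.Helper9.HeisU

set_option autoImplicit false
set_option linter.unusedSectionVars false
set_option linter.unusedVariables false

/-! The extraspecial group `3^{1+2}` (times scalars) inside `GU_3(2)`: concrete generators. -/

namespace Cfsg.Agent.Lib.Helper5.Heis3

open Matrix Cfsg
open Cfsg.Agent.Lib.Helper5.HermCenter Cfsg.Agent.Lib.Helper5.SU32 Cfsg.Agent.Lib.Helper5.SU32b
open Cfsg.Agent.Lib.Helper8.Asch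

variable {F : Type*} [Field F] [Fintype F] (hF : Fintype.card F = 2 ^ 2)

/-- the element of `GL_3` with a given matrix of determinant one -/
noncomputable def glOf (M : Matrix (Fin 3) (Fin 3) F) (h : M.det = 1) : GL (Fin 3) F :=
  Matrix.GeneralLinearGroup.mkOfDetNeZero M (by rw [h]; exact one_ne_zero)

theorem glOf_val (M : Matrix (Fin 3) (Fin 3) F) (h : M.det = 1) :
    ((glOf M h : GL (Fin 3) F) : Matrix (Fin 3) (Fin 3) F) = M := rfl

variable (ω : F) (hω : ω ^ 2 + ω + 1 = 0) (hω1 : ω ≠ 1)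

include hω in
theorem omega_cube : ω ^ 3 = 1 := by
  have : ω ^ 3 - 1 = (ω - 1) * (ω ^ 2 + ω + 1) := by ring
  rw [hω, mul_zero] at this
  exact sub_eq_zero.mp this

theorem Mz_eq_smul : Mz ω = ω • (1 : Matrix (Fin 3) (Fin 3) F) := by
  rw [Mz_eq, Matrix.smul_one_eq_diagonal]

/-- the generators -/
noncomputable def cG : GL (Fin 3) F := glOf Mc (det_Mc ω hω (two_eq_zero hF))
noncomputable def dG : GL (Fin 3) F := glOf (Md ω) (det_Md ω hω (two_eq_zero hF))
noncomputable def zG : GL (Fin 3) F := glOf (Mz ω) (det_Mz ω hω (two_eq_zero hF))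
noncomputable def mG : GL (Fin 3) F := glOf (Mm ω) (det_Mm ω hω (two_eq_zero hF))

include hω1 in
theorem hrel : HRel (cG hF ω hω) (dG hF ω hω) (zG hF ω hω) (mG hF ω hω) := by
  have h2 := two_eq_zero hF
  constructor
  · intro g
    apply Units.ext
    rw [Units.val_mul, Units.val_mul]
    show Mz ω * (g : Matrix (Fin 3) (Fin 3) F) = (g : Matrix (Fin 3) (Fin 3) F) * Mz ω
    rw [Mz_eq_smul, Matrix.smul_mul, Matrix.mul_smul, one_mul, mul_one]
  · apply Units.ext
    rw [Units.val_pow_eq_pow_val]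
    show Mz ω ^ 3 = 1
    rw [Mz_eq_smul, smul_pow, one_pow, omega_cube ω hω, one_smul]
  · apply Units.ext
    rw [Units.val_pow_eq_pow_val]
    show (Mc : Matrix (Fin 3) (Fin 3) F) ^ 3 = 1
    rw [pow_succ, pow_two]
    exact c_cube ω hω h2
  · apply Units.ext
    rw [Units.val_pow_eq_pow_val]
    show Md ω ^ 3 = 1
    rw [pow_succ, pow_two]
    exact d_cube ω hω h2
  · apply Units.ext
    simp only [Units.val_mul]
    exact c_d ω hω h2
  · apply Units.ext
    simp only [Units.val_mul]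
    exact m_c ω hω h2
  · apply Units.ext
    simp only [Units.val_mul]
    exact m_d ω hω h2
  · intro h
    have h1 := congrArg (fun g : GL (Fin 3) F => (g : Matrix (Fin 3) (Fin 3) F) 0 0) h
    simp only [Units.val_one, Matrix.one_apply_eq] at h1
    have h3 : (Mz ω) 0 0 = 1 := h1
    simp [Mz] at h3
    exact hω1 h3

/-- the group `E` -/
noncomputable def EG : Subgroup (GL (Fin 3) F) :=
  HRel.E (cG hF ω hω) (dG hF ω hω) (zG hF ω hω)

theorem zG_mem_Zs : zG hF ω hω ∈ Zs (Fin 3) F := by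
  have h0 : ω ≠ 0 := by
    intro h0
    rw [h0] at hω
    simp at hω
  refine ⟨Units.mk0 ω h0, ?_⟩
  show Mz ω = _
  rw [Mz_eq_smul]
  rfl

theorem zpowers_le_Zs : Subgroup.zpowers (zG hF ω hω) ≤ Zs (Fin 3) F := by
  rw [Subgroup.zpowers_le]
  exact zG_mem_Zs hF ω hω

include hF hω hω1 in
/-- the nonzero elements of `F` are `1, ω, ω²` -/
theorem units_cases (a : F) (ha : a ≠ 0) : a = 1 ∨ a = ω ∨ a = ω ^ 2 := by
  have h2 := two_eq_zero hF
  have h3 : a ^ 3 = 1 := by
    have := FiniteField.pow_card_sub_one_eq_one a ha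
    rw [hF] at this
    exact this
  have hfac : (a - 1) * ((a - ω) * (a - ω ^ 2)) = 0 := by
    have : (a - 1) * ((a - ω) * (a - ω ^ 2)) = a ^ 3 - 1 + (a - 1) * (-(a * (ω ^ 2 + ω + 1)) +
        (ω ^ 3 - 1)) := by ring
    rw [this, h3, hω, omega_cube ω hω]
    ring
  rcases mul_eq_zero.mp hfac with h | h
  · exact Or.inl (sub_eq_zero.mp h)
  · rcases mul_eq_zero.mp h with h | h
    · exact Or.inr (Or.inl (sub_eq_zero.mp h))
    · exact Or.inr (Or.inr (sub_eq_zero.mp h))

include hω1 in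
theorem Zs_le_zpowers : Zs (Fin 3) F ≤ Subgroup.zpowers (zG hF ω hω) := by
  rintro g ⟨a, ha⟩
  rcases units_cases hF ω hω hω1 (a : F) a.ne_zero with h | h | h
  · have : g = 1 := by
      apply Units.ext
      rw [ha, h, one_smul, Units.val_one]
    rw [this]
    exact Subgroup.one_mem _
  · have : g = zG hF ω hω := by
      apply Units.ext
      rw [ha, h]
      show _ = Mz ω
      rw [Mz_eq_smul]
    rw [this]
    exact Subgroup.mem_zpowers _
  · have : g = zG hF ω hω ^ 2 := by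
      apply Units.ext
      rw [ha, h, Units.val_pow_eq_pow_val]
      show _ = Mz ω ^ 2
      rw [Mz_eq_smul, smul_pow, one_pow]
    rw [this]
    exact Subgroup.pow_mem _ (Subgroup.mem_zpowers _) _

include hω1 in
theorem Zs_le_EG : Zs (Fin 3) F ≤ EG hF ω hω := by
  intro g hg
  have := Zs_le_zpowers hF ω hω hω1 hg
  obtain ⟨k, rfl⟩ := Subgroup.mem_zpowers_iff.mp this
  exact Subgroup.zpow_mem _ (HRel.z_mem (hrel hF ω hω hω1)) k

theorem EG_le_GU : EG hF ω hω ≤ GU 3 F 2 := by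
  have h2 := two_eq_zero hF
  unfold EG HRel.E
  rw [Subgroup.closure_le]
  rintro g (rfl | rfl | rfl)
  · exact (mem_GU_iff' hF _).mpr (isU_Mc ω hω h2)
  · exact (mem_GU_iff' hF _).mpr (isU_Md ω hω h2)
  · exact (mem_GU_iff' hF _).mpr (isU_Mz ω hω h2)

end Cfsg.Agent.Lib.Helper5.Heis3
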