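import Cfsg.Agent.Lib.Helper5.Heis3.Concrete

set_option autoImplicit false
set_option linter.unusedSectionVars false
set_option linter.unusedVariables false

/-! `E` spans the full matrix algebra. -/

namespace Cfsg.Agent.Lib.Helper5.Heis3

open Matrix Cfsg
open Cfsg.Agent.Lib.Helper5.HermCenter Cfsg.Agent.Lib.Helper5.SU32 Cfsg.Agent.Lib.Helper5.SU32b
open Cfsg.Agent.Lib.Helper8.Asch

variable {F : Type*} [Field F] [Fintype F] (hF : Fintype.card F = 2 ^ 2)

theorem span_mset_mul {ι : Type} [Fintype ι] [DecidableEq ι] (N : Subgroup (GL ι F))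
    {X Y : Matrix ι ι F} (hX : X ∈ Submodule.span F (mset N)) (hY : Y ∈ Submodule.span F (mset N)) :
    X * Y ∈ Submodule.span F (mset N) := by
  have h1 : X * Y ∈ Submodule.span F (mset N) * Submodule.span F (mset N) :=
    Submodule.mul_mem_mul hX hY
  rw [Submodule.span_mul_span] at h1
  refine Submodule.span_mono ?_ h1
  rintro _ ⟨A, ⟨g, hg, rfl⟩, B, ⟨h, hh, rfl⟩, rfl⟩
  exact ⟨g * h, N.mul_mem hg hh, by simp⟩

variable (ω : F) (hω : ω ^ 2 + ω + 1 = 0) (hω1 : ω ≠ 1)

include hF hω in
theorem e00_eq : (1 : Matrix (Fin 3) (Fin 3) F) + Md ω + Md ω * Md ω = Matrix.single 0 0 1 := by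
  have h2 := two_eq_zero hF
  have h4 : ω ^ 4 = ω := by
    have := omega_cube ω hω
    calc ω ^ 4 = ω ^ 3 * ω := by ring
      _ = ω := by rw [this, one_mul]
  ext i j
  fin_cases i <;> fin_cases j <;>
    simp [Md, Matrix.mul_apply, Fin.sum_univ_three, Matrix.single_apply, Matrix.one_apply]
  · linear_combination h2
  · linear_combination hω
  · have : ω ^ 2 * ω ^ 2 = ω ^ 4 := by ring
    rw [this, h4]
    linear_combination hω

theorem Mc_mul_single (a b : Fin 3) :
    (Mc : Matrix (Fin 3) (Fin 3) F) * Matrix.single a b 1 = Matrix.single (a - 1) b 1 := by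
  ext i j
  fin_cases a <;> fin_cases b <;> fin_cases i <;> fin_cases j <;>
    simp [Mc, Matrix.mul_apply, Fin.sum_univ_three, Matrix.single_apply] <;> decide

theorem single_mul_Mc (a b : Fin 3) :
    Matrix.single a b 1 * (Mc : Matrix (Fin 3) (Fin 3) F) = Matrix.single a (b + 1) 1 := by
  ext i j
  fin_cases a <;> fin_cases b <;> fin_cases i <;> fin_cases j <;>
    simp [Mc, Matrix.mul_apply, Fin.sum_univ_three, Matrix.single_apply] <;> decide

include hω1 in
theorem span_EG : Submodule.span F (mset (EG hF ω hω)) = ⊤ := by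
  have R := hrel hF ω hω hω1
  set S := Submodule.span F (mset (EG hF ω hω)) with hS
  have hc : (Mc : Matrix (Fin 3) (Fin 3) F) ∈ S :=
    Submodule.subset_span ⟨cG hF ω hω, HRel.c_mem R, rfl⟩
  have hd : Md ω ∈ S := Submodule.subset_span ⟨dG hF ω hω, HRel.d_mem R, rfl⟩
  have h1 : (1 : Matrix (Fin 3) (Fin 3) F) ∈ S :=
    Submodule.subset_span ⟨1, Subgroup.one_mem _, by simp⟩
  have h00 : Matrix.single (0 : Fin 3) (0 : Fin 3) (1 : F) ∈ S := by
    rw [← e00_eq hF ω hω]
    exact S.add_mem (S.add_mem h1 hd) (span_mset_mul _ hd hd)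
  have hrow : ∀ a b : Fin 3, Matrix.single a b (1 : F) ∈ S → Matrix.single (a - 1) b (1 : F) ∈ S := by
    intro a b h
    rw [← Mc_mul_single]
    exact span_mset_mul _ hc h
  have hcol : ∀ a b : Fin 3, Matrix.single a b (1 : F) ∈ S → Matrix.single a (b + 1) (1 : F) ∈ S := by
    intro a b h
    rw [← single_mul_Mc]
    exact span_mset_mul _ h hc
  have hall : ∀ a b : Fin 3, Matrix.single a b (1 : F) ∈ S := by
    have r0 : ∀ b : Fin 3, Matrix.single (0 : Fin 3) b (1 : F) ∈ S := by
      intro b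
      fin_cases b
      · exact h00
      · exact hcol 0 0 h00
      · exact hcol 0 1 (hcol 0 0 h00)
    intro a b
    fin_cases a
    · exact r0 b
    · exact hrow 2 b (hrow 0 b (r0 b))
    · exact hrow 0 b (r0 b)
  rw [eq_top_iff]
  intro M _
  rw [Matrix.matrix_eq_sum_single M]
  refine S.sum_mem (fun i _ => S.sum_mem (fun j _ => ?_))
  have : Matrix.single i j (M i j) = (M i j) • Matrix.single i j (1 : F) := by
    rw [Matrix.smul_single, smul_eq_mul, mul_one]
  rw [this]
  exact S.smul_mem _ (hall i j)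

end Cfsg.Agent.Lib.Helper5.Heis3
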