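import Cfsg.Agent.Lib.Helper5.Heis3.Norm
import Cfsg.Agent.Lib.Helper5.Heis3.Span

set_option autoImplicit false
set_option linter.unusedSectionVars false
set_option linter.unusedVariables false

/-! The `HeisData` for `3^{1+2}` in `GU_3(2)` (requested by helper9 for the unitary Aschbacher
theorem, exceptional case `(q, k) = (2, 3)`). -/

namespace Cfsg.Agent.Lib.Helper5.Heis3

open Matrix Cfsg
open Cfsg.Agent.Lib.Helper5.HermCenter Cfsg.Agent.Lib.Helper5.SU32 Cfsg.Agent.Lib.Helper5.SU32b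
open Cfsg.Agent.Lib.Helper8.Asch

variable {F : Type*} [Field F] [Fintype F] (hF : Fintype.card F = 2 ^ 2)

/-- `diag(δ, 1, 1)` -/
def Dm (δ : F) : Matrix (Fin 3) (Fin 3) F := !![δ, 0, 0; 0, 1, 0; 0, 0, 1]

theorem det_Dm (δ : F) : (Dm δ).det = δ := by
  simp [Dm, Matrix.det_fin_three]

theorem isU_Dm (δ : F) (h3 : δ ^ 3 = 1) : IsU 2 (Dm δ) := by
  unfold Dm
  rw [isU_iff]
  simp only [Matrix.mul_fin_three, Matrix.one_fin_three]
  apply mat3_ext <;> first
    | ring1
    | linear_combination h3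

/-- the element `diag(δ, 1, 1)` of `GL_3` -/
noncomputable def DG (δ : F) (h : δ ≠ 0) : GL (Fin 3) F :=
  Matrix.GeneralLinearGroup.mkOfDetNeZero (Dm δ) (by rw [det_Dm]; exact h)

variable (ω : F) (hω : ω ^ 2 + ω + 1 = 0) (hω1 : ω ≠ 1)

include hω in
theorem D1_c : Dm ω * (Mc : Matrix (Fin 3) (Fin 3) F) =
    Mz ω * Mz ω * Mc * Md ω * Md ω * Dm ω := by
  have h3 := omega_cube ω hω
  simp only [Dm, Mc, Md, Mz, Matrix.mul_fin_three, Matrix.one_fin_three]
  apply mat3_ext <;> first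
    | ring1
    | linear_combination (-ω) * h3
    | linear_combination (-(ω ^ 3 + 1)) * h3
    | linear_combination (-1 : F) * h3

include hω in
theorem D2_c : Dm (ω ^ 2) * (Mc : Matrix (Fin 3) (Fin 3) F) =
    Mz ω * Mc * Md ω * Dm (ω ^ 2) := by
  have h3 := omega_cube ω hω
  simp only [Dm, Mc, Md, Mz, Matrix.mul_fin_three, Matrix.one_fin_three]
  apply mat3_ext <;> first
    | ring1
    | linear_combination (-ω) * h3
    | linear_combination (-(ω ^ 3 + 1)) * h3
    | linear_combination (-1 : F) * h3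

theorem D_d (δ : F) : Dm δ * Md ω = Md ω * Dm δ := by
  simp only [Dm, Md, Matrix.mul_fin_three]
  apply mat3_ext <;> ring1

theorem D_z (δ : F) : Dm δ * Mz ω = Mz ω * Dm δ := by
  simp only [Dm, Mz, Matrix.mul_fin_three]
  apply mat3_ext <;> ring1

include hω1 in
/-- `diag(δ,1,1)` normalises `E` -/
theorem DG_conj_mem (δ : F) (h0 : δ ≠ 0) (hδ : δ = ω ∨ δ = ω ^ 2) :
    ∀ x ∈ EG hF ω hω, DG δ h0 * x * (DG δ h0)⁻¹ ∈ EG hF ω hω := by
  have R := hrel hF ω hω hω1
  have hc := HRel.c_mem R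
  have hd := HRel.d_mem R
  have hz := HRel.z_mem R
  unfold EG HRel.E
  apply conj_mem_of_gens
  rintro s (rfl | rfl | rfl)
  · rcases hδ with h | h
    · obtain rfl := h.symm
      have e : DG ω h0 * cG hF ω hω =
          zG hF ω hω * zG hF ω hω * cG hF ω hω * dG hF ω hω * dG hF ω hω * DG ω h0 := by
        apply Units.ext
        simp only [Units.val_mul]
        exact D1_c ω hω
      rw [e]
      have : zG hF ω hω * zG hF ω hω * cG hF ω hω * dG hF ω hω * dG hF ω hω * DG ω h0 *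
          (DG ω h0)⁻¹ = zG hF ω hω * zG hF ω hω * cG hF ω hω * dG hF ω hω * dG hF ω hω := by group
      rw [this]
      exact Subgroup.mul_mem _ (Subgroup.mul_mem _ (Subgroup.mul_mem _
        (Subgroup.mul_mem _ hz hz) hc) hd) hd
    · subst h
      have e : DG (ω ^ 2) h0 * cG hF ω hω =
          zG hF ω hω * cG hF ω hω * dG hF ω hω * DG (ω ^ 2) h0 := by
        apply Units.ext
        simp only [Units.val_mul]
        exact D2_c ω hω
      rw [e]
      have : zG hF ω hω * cG hF ω hω * dG hF ω hω * DG (ω ^ 2) h0 * (DG (ω ^ 2) h0)⁻¹ =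
          zG hF ω hω * cG hF ω hω * dG hF ω hω := by group
      rw [this]
      exact Subgroup.mul_mem _ (Subgroup.mul_mem _ hz hc) hd
  · have e : DG δ h0 * dG hF ω hω = dG hF ω hω * DG δ h0 := by
      apply Units.ext
      simp only [Units.val_mul]
      exact D_d ω δ
    rw [e]
    have : dG hF ω hω * DG δ h0 * (DG δ h0)⁻¹ = dG hF ω hω := by group
    rw [this]
    exact hd
  · have e : DG δ h0 * zG hF ω hω = zG hF ω hω * DG δ h0 := by
      apply Units.ext
      simp only [Units.val_mul]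
      exact D_z ω δ
    rw [e]
    have : zG hF ω hω * DG δ h0 * (DG δ h0)⁻¹ = zG hF ω hω := by group
    rw [this]
    exact hz

include hω1 in
/-- `GU_3(2)` normalises `E` -/
theorem GU_conj_mem (U : GL (Fin 3) F) (hU : U ∈ GU 3 F 2) :
    ∀ x ∈ EG hF ω hω, U * x * U⁻¹ ∈ EG hF ω hω := by
  intro x hx
  have hUu : IsU 2 (U : Matrix (Fin 3) (Fin 3) F) := (mem_GU_iff' hF U).mp hU
  set δ := (U : Matrix (Fin 3) (Fin 3) F).det with hδ
  have hδ0 : δ ≠ 0 := by
    have := (Matrix.isUnit_iff_isUnit_det _).mp U.isUnit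
    exact this.ne_zero
  rcases units_cases hF ω hω hω1 δ hδ0 with h1 | h1
  · exact conj_mem_of_P hF ω hω hω1 U ⟨h1, hUu⟩ x hx
  · have hδ3 : δ ^ 3 = 1 := by
      rcases h1 with h1 | h1
      · rw [h1]; exact omega_cube ω hω
      · rw [h1, ← pow_mul, mul_comm, pow_mul, omega_cube ω hω, one_pow]
    have hDU : DG δ hδ0 ∈ GU 3 F 2 := (mem_GU_iff' hF _).mpr (isU_Dm δ hδ3)
    set U0 := U * (DG δ hδ0)⁻¹ with hU0
    have hU0U : U0 ∈ GU 3 F 2 := Subgroup.mul_mem _ hU (Subgroup.inv_mem _ hDU)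
    have hdetD : ((DG δ hδ0 : GL (Fin 3) F) : Matrix (Fin 3) (Fin 3) F).det = δ := det_Dm δ
    have hdetDi : (((DG δ hδ0)⁻¹ : GL (Fin 3) F) : Matrix (Fin 3) (Fin 3) F).det = δ⁻¹ := by
      have h2 : (((DG δ hδ0)⁻¹ : GL (Fin 3) F) : Matrix (Fin 3) (Fin 3) F).det *
          ((DG δ hδ0 : GL (Fin 3) F) : Matrix (Fin 3) (Fin 3) F).det = 1 := by
        rw [← Matrix.det_mul, ← Units.val_mul, inv_mul_cancel, Units.val_one, Matrix.det_one]
      rw [hdetD] at h2
      exact eq_inv_of_mul_eq_one_left h2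
    have hP0 : P (U0 : Matrix (Fin 3) (Fin 3) F) := by
      refine ⟨?_, (mem_GU_iff' hF U0).mp hU0U⟩
      rw [hU0, Units.val_mul, Matrix.det_mul, hdetDi, ← hδ, mul_inv_cancel₀ hδ0]
    have h2 := DG_conj_mem hF ω hω hω1 δ hδ0 h1 x hx
    have h3 := conj_mem_of_P hF ω hω hω1 U0 hP0 _ h2
    have : U * x * U⁻¹ = U0 * (DG δ hδ0 * x * (DG δ hδ0)⁻¹) * U0⁻¹ := by
      rw [hU0]; group
    rw [this]
    exact h3

include hF in
/-- **The Heisenberg data in `GU_3(2)`.** -/
theorem exists_heisData :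
    ∃ (E : Subgroup (GL (Fin 3) F)) (W : GL (Fin 3) F),
      Cfsg.Agent.Lib.Helper9.AschU.HeisData F E W := by
  obtain ⟨ω, hω, hω1⟩ := exists_omega hF
  have R := hrel hF ω hω hω1
  refine ⟨EG hF ω hω, mG hF ω hω, ?_⟩
  constructor
  · exact span_EG hF ω hω hω1
  · intro x hx y hy
    exact zpowers_le_Zs hF ω hω (HRel.comm_mem R hx hy)
  · intro x hx
    exact HRel.cube R hx
  · exact Zs_le_EG hF ω hω hω1
  · exact EG_le_GU hF ω hω
  · intro x hx
    exact HRel.wnorm R hx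
  · intro x hx hxz
    exact HRel.factC R hx (fun h => hxz (zpowers_le_Zs hF ω hω h))
  · intro U hU x hx
    exact GU_conj_mem hF ω hω hω1 U hU x hx

end Cfsg.Agent.Lib.Helper5.Heis3
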