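import Cfsg.Agent.Lib.Helper5.Heis3.Concrete

set_option autoImplicit false
set_option linter.unusedSectionVars false
set_option linter.unusedVariables false

/-! `GU_3(2)` normalises `E`. -/

namespace Cfsg.Agent.Lib.Helper5.Heis3

open Matrix Cfsg
open Cfsg.Agent.Lib.Helper5.HermCenter Cfsg.Agent.Lib.Helper5.SU32 Cfsg.Agent.Lib.Helper5.SU32b
open Cfsg.Agent.Lib.Helper8.Asch

section generic
variable {G : Type*} [Group G]

/-- conjugation sends a closure into a subgroup if it does so on generators -/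
theorem conj_mem_of_gens (S : Set G) (K : Subgroup G) (g : G)
    (h : ∀ s ∈ S, g * s * g⁻¹ ∈ K) : ∀ x ∈ Subgroup.closure S, g * x * g⁻¹ ∈ K := by
  intro x hx
  induction hx using Subgroup.closure_induction with
  | mem y hy => exact h y hy
  | one => simp
  | mul a b _ _ ha hb =>
    have : g * (a * b) * g⁻¹ = (g * a * g⁻¹) * (g * b * g⁻¹) := by group
    rw [this]
    exact K.mul_mem ha hb
  | inv a _ ha =>
    have : g * a⁻¹ * g⁻¹ = (g * a * g⁻¹)⁻¹ := by group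
    rw [this]
    exact K.inv_mem ha

end generic

variable {F : Type*} [Field F] [Fintype F] (hF : Fintype.card F = 2 ^ 2)

include hF in
theorem P_inv (g : GL (Fin 3) F) (hg : P (g : Matrix (Fin 3) (Fin 3) F)) :
    P ((g⁻¹ : GL (Fin 3) F) : Matrix (Fin 3) (Fin 3) F) := by
  constructor
  · have h1 : ((g⁻¹ : GL (Fin 3) F) : Matrix (Fin 3) (Fin 3) F).det *
        (g : Matrix (Fin 3) (Fin 3) F).det = 1 := by
      rw [← Matrix.det_mul, ← Units.val_mul, inv_mul_cancel, Units.val_one, Matrix.det_one]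
    rw [hg.1, mul_one] at h1
    exact h1
  · have hgU : g ∈ GU 3 F 2 := (mem_GU_iff' hF g).mpr hg.2
    exact (mem_GU_iff' hF g⁻¹).mp (Subgroup.inv_mem _ hgU)

include hF in
theorem toG_inv (g : GL (Fin 3) F) (hg : P (g : Matrix (Fin 3) (Fin 3) F)) :
    toG hF ((g⁻¹ : GL (Fin 3) F) : Matrix (Fin 3) (Fin 3) F) =
      (toG hF (g : Matrix (Fin 3) (Fin 3) F))⁻¹ := by
  rw [eq_inv_iff_mul_eq_one, ← toG_mul hF (P_inv hF g hg) hg, ← Units.val_mul, inv_mul_cancel,
    Units.val_one, toG_one]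

variable (ω : F) (hω : ω ^ 2 + ω + 1 = 0) (hω1 : ω ≠ 1)

include hω1 in
theorem P_of_mem_EG : ∀ x ∈ EG hF ω hω, P (x : Matrix (Fin 3) (Fin 3) F) := by
  intro x hx
  unfold EG HRel.E at hx
  induction hx using Subgroup.closure_induction with
  | mem y hy =>
    rcases hy with rfl | rfl | rfl
    · exact P_c hF ω hω
    · exact P_d hF ω hω
    · exact P_z hF ω hω
  | one => rw [Units.val_one]; exact P_one hF
  | mul a b _ _ ha hb => rw [Units.val_mul]; exact P_mul hF ha hb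
  | inv a _ ha => exact P_inv hF a ha

/-- the images in `PSU_3(2)` -/
noncomputable def cbar : Cfsg.PSU 3 F 2 := toG hF (Mc : Matrix (Fin 3) (Fin 3) F)
noncomputable def dbar : Cfsg.PSU 3 F 2 := toG hF (Md ω)

include hω1 in
theorem toG_mem_NN : ∀ x ∈ EG hF ω hω,
    toG hF (x : Matrix (Fin 3) (Fin 3) F) ∈ Ext9Q8.NN (cbar hF) (dbar hF ω) := by
  intro x hx
  have hP := P_of_mem_EG hF ω hω hω1
  unfold EG HRel.E at hx hP
  induction hx using Subgroup.closure_induction with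
  | mem y hy =>
    rcases hy with rfl | rfl | rfl
    · exact Ext9Q8.c_mem
    · exact Ext9Q8.d_mem
    · show toG hF (Mz ω) ∈ _
      rw [toG_z hF ω hω]
      exact Subgroup.one_mem _
  | one => rw [Units.val_one, toG_one]; exact Subgroup.one_mem _
  | mul a b ha' hb' ha hb =>
    rw [Units.val_mul, toG_mul hF (hP a ha') (hP b hb')]
    exact Subgroup.mul_mem _ ha hb
  | inv a ha' ha =>
    rw [toG_inv hF a (hP a ha')]
    exact Subgroup.inv_mem _ ha

include hω1 in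
theorem exists_of_mem_NN : ∀ g ∈ Ext9Q8.NN (cbar hF) (dbar hF ω),
    ∃ e ∈ EG hF ω hω, toG hF (e : Matrix (Fin 3) (Fin 3) F) = g := by
  intro g hg
  have R := hrel hF ω hω hω1
  have hP := P_of_mem_EG hF ω hω hω1
  unfold Ext9Q8.NN at hg
  induction hg using Subgroup.closure_induction with
  | mem y hy =>
    rcases hy with rfl | rfl
    · exact ⟨cG hF ω hω, HRel.c_mem R, rfl⟩
    · exact ⟨dG hF ω hω, HRel.d_mem R, rfl⟩
  | one => exact ⟨1, Subgroup.one_mem _, by rw [Units.val_one, toG_one]⟩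
  | mul a b _ _ ha hb =>
    obtain ⟨e, he, rfl⟩ := ha
    obtain ⟨e', he', rfl⟩ := hb
    exact ⟨e * e', Subgroup.mul_mem _ he he', by
      rw [Units.val_mul, toG_mul hF (hP e he) (hP e' he')]⟩
  | inv a _ ha =>
    obtain ⟨e, he, rfl⟩ := ha
    exact ⟨e⁻¹, Subgroup.inv_mem _ he, toG_inv hF e (hP e he)⟩

include hF in
theorem mem_Zs_of_toG_eq_one (y : GL (Fin 3) F) (hy : P (y : Matrix (Fin 3) (Fin 3) F))
    (h : toG hF (y : Matrix (Fin 3) (Fin 3) F) = 1) : y ∈ Zs (Fin 3) F := by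
  rw [← toG_one hF] at h
  obtain ⟨l, hl⟩ := toG_eq hF hy (P_one hF) h
  have hl0 : l ≠ 0 := by
    intro h0
    rw [h0] at hl
    have : (Matrix.diagonal (fun _ : Fin 3 => (0 : F))) = 0 := by
      ext i j; simp [Matrix.diagonal_apply]
    rw [this, mul_zero] at hl
    exact zero_ne_one hl
  -- y = l⁻¹ • 1
  refine ⟨Units.mk0 l⁻¹ (inv_ne_zero hl0), ?_⟩
  have h1 : (y : Matrix (Fin 3) (Fin 3) F) * (l • (1 : Matrix (Fin 3) (Fin 3) F)) = 1 := by
    rw [Matrix.smul_one_eq_diagonal]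
    exact hl
  rw [Matrix.mul_smul, mul_one] at h1
  show (y : Matrix (Fin 3) (Fin 3) F) = l⁻¹ • (1 : Matrix (Fin 3) (Fin 3) F)
  rw [← h1, smul_smul, inv_mul_cancel₀ hl0, one_smul]

include hω1 in
/-- `SU_3(2)` normalises `E` -/
theorem conj_mem_of_P (U : GL (Fin 3) F) (hU : P (U : Matrix (Fin 3) (Fin 3) F)) :
    ∀ x ∈ EG hF ω hω, U * x * U⁻¹ ∈ EG hF ω hω := by
  intro x hx
  have hPx := P_of_mem_EG hF ω hω hω1 x hx
  have hPy : P ((U * x * U⁻¹ : GL (Fin 3) F) : Matrix (Fin 3) (Fin 3) F) := by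
    rw [Units.val_mul, Units.val_mul]
    exact P_mul hF (P_mul hF hU hPx) (P_inv hF U hU)
  have hnorm : (Ext9Q8.NN (cbar hF) (dbar hF ω)).Normal :=
    Ext9Q8.normal_NN (rel hF ω hω hω1) (card_G hF)
  have h1 : toG hF ((U * x * U⁻¹ : GL (Fin 3) F) : Matrix (Fin 3) (Fin 3) F) ∈
      Ext9Q8.NN (cbar hF) (dbar hF ω) := by
    rw [Units.val_mul, Units.val_mul, toG_mul hF (P_mul hF hU hPx) (P_inv hF U hU),
      toG_mul hF hU hPx, toG_inv hF U hU]
    exact hnorm.conj_mem _ (toG_mem_NN hF ω hω hω1 x hx) _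
  obtain ⟨e, he, hee⟩ := exists_of_mem_NN hF ω hω hω1 _ h1
  have hPe := P_of_mem_EG hF ω hω hω1 e he
  have h2 : toG hF ((U * x * U⁻¹ * e⁻¹ : GL (Fin 3) F) : Matrix (Fin 3) (Fin 3) F) = 1 := by
    rw [Units.val_mul, toG_mul hF hPy (P_inv hF e hPe), toG_inv hF e hPe, hee, mul_inv_cancel]
  have hPye : P ((U * x * U⁻¹ * e⁻¹ : GL (Fin 3) F) : Matrix (Fin 3) (Fin 3) F) := by
    rw [Units.val_mul]
    exact P_mul hF hPy (P_inv hF e hPe)
  have h3 := mem_Zs_of_toG_eq_one hF _ hPye h2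
  have h4 := Zs_le_EG hF ω hω hω1 h3
  have : U * x * U⁻¹ = (U * x * U⁻¹ * e⁻¹) * e := by group
  rw [this]
  exact Subgroup.mul_mem _ h4 he

end Cfsg.Agent.Lib.Helper5.Heis3
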